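import Groth.Prelude.Def_FlatCA
import Groth.Agent.Lib.AssPts.Alg
import Mathlib.RingTheory.LocalRing.ResidueField.Fiber
import Mathlib.RingTheory.TensorProduct.IsBaseChangePi
import Mathlib.RingTheory.Localization.BaseChange
import Mathlib.RingTheory.Finiteness.Basic
import Mathlib.RingTheory.IsTensorProduct

/-!
# The fibre module of a module over an algebra
-/

set_option autoImplicit false
set_option linter.all false
universe u

open TensorProduct

namespace GrothLib.WeakAssFib

variable {R S : Type u} [CommRing R] [CommRing S] [Algebra R S] (p : Ideal R) [p.IsPrime]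

/-- The map to the fibre ring. -/
noncomputable abbrev toFib : S →+* p.Fiber S :=
  (Algebra.TensorProduct.includeRight (R := R) (A := p.ResidueField) (B := S)).toRingHom

theorem exists_fibreEquiv (N : Type u) [AddCommGroup N] [Module S N] [Module R N] [IsScalarTower R S N] :
    ∃ e : N ⊗[R] p.ResidueField ≃+ FlatCA.fiberMod p S N,
      ∀ (s : S) y, e (s • y) = toFib p s • e y := by
  letI : Algebra S (p.Fiber S) := Algebra.TensorProduct.rightAlgebra
  let e : N ⊗[R] p.ResidueField ≃ₗ[R] (p.Fiber S) ⊗[S] N := TensorProduct.comm R N p.ResidueField ≪≫ₗ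
    ((Algebra.IsPushout.cancelBaseChange R p.ResidueField S (p.Fiber S) N).symm.restrictScalars R)
  have he : ∀ (b : S) (y : N ⊗[R] p.ResidueField), e (b • y) = b • e y := fun b y => by
    induction y using TensorProduct.induction_on with
    | zero => simp
    | add u v hu hv => simp only [smul_add, map_add, hu, hv]
    | tmul m c =>
      rw [smul_tmul']
      simp [e, tmul_smul]
  refine ⟨e.toAddEquiv, fun s y => ?_⟩
  refine (he s y).trans ?_
  show s • e y = (algebraMap S (p.Fiber S) s) • e y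
  rw [algebraMap_smul]

theorem comap_fiberIdeal (q : Ideal S) [q.IsPrime] [q.LiesOver p] :
    (FlatCA.fiberIdeal p q).comap (toFib p) = q := by
  refine le_antisymm (fun s hs => ?_) Ideal.le_comap_map
  let φ : p.Fiber S →ₐ[R] q.ResidueField := Algebra.TensorProduct.lift
    (Ideal.ResidueField.mapₐ p q (Algebra.ofId R S) (q.over_def p)) (IsScalarTower.toAlgHom R S q.ResidueField)
    fun _ _ => Commute.all _ _
  have hle : FlatCA.fiberIdeal p q ≤ RingHom.ker φ.toRingHom := Ideal.map_le_iff_le_comap.2 fun t ht => by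
    show φ ((1 : p.ResidueField) ⊗ₜ[R] t) = 0
    rw [Algebra.TensorProduct.lift_tmul, map_one, one_mul]
    exact Ideal.algebraMap_residueField_eq_zero.2 ht
  have h := hle hs
  change φ ((1 : p.ResidueField) ⊗ₜ[R] s) = 0 at h
  rw [Algebra.TensorProduct.lift_tmul, map_one, one_mul] at h
  exact Ideal.algebraMap_residueField_eq_zero.1 h

theorem isUnit_toFib {r : R} (hr : r ∉ p) : IsUnit (algebraMap R (p.Fiber S) r) := by
  rw [IsScalarTower.algebraMap_apply R p.ResidueField (p.Fiber S)]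
  exact (isUnit_iff_ne_zero.mpr fun h0 => hr (Ideal.algebraMap_residueField_eq_zero.mp h0)).map _

theorem toFib_algebraMap (r : R) : toFib p (algebraMap R S r) = algebraMap R (p.Fiber S) r :=
  (Algebra.TensorProduct.includeRight (R := R) (A := p.ResidueField) (B := S)).commutes r

theorem fiberIdeal_comap (P : Ideal (p.Fiber S)) [P.IsPrime] :
    FlatCA.fiberIdeal p (P.comap (toFib p)) = P := by
  refine le_antisymm Ideal.map_comap_le fun x hx => ?_
  obtain ⟨r, hr, s, e⟩ := Ideal.Fiber.exists_smul_eq_one_tmul p x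
  have hs : s ∈ P.comap (toFib p) := by
    show (1 : p.ResidueField) ⊗ₜ[R] s ∈ P
    rw [← e]
    exact P.smul_of_tower_mem r hx
  rw [← Ideal.unit_mul_mem_iff_mem _ (isUnit_toFib p hr), ← Algebra.smul_def, e]
  exact Ideal.mem_map_of_mem _ hs

theorem comap_comap_toFib (P : Ideal (p.Fiber S)) [P.IsPrime] :
    (P.comap (toFib p)).comap (algebraMap R S) = p := by
  ext r
  show toFib p (algebraMap R S r) ∈ P ↔ r ∈ p
  rw [toFib_algebraMap]
  refine ⟨fun h => by_contra fun hr => ‹P.IsPrime›.ne_top (P.eq_top_of_isUnit_mem h (isUnit_toFib p hr)), fun hr => ?_⟩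
  rw [IsScalarTower.algebraMap_apply R p.ResidueField (p.Fiber S), Ideal.algebraMap_residueField_eq_zero.2 hr,
    map_zero]
  exact zero_mem P

variable {N : Type u} [AddCommGroup N] [Module R N]

theorem exists_smul_eq_tmul_one (z : N ⊗[R] p.ResidueField) :
    ∃ r : R, r ∉ p ∧ ∃ n : N, r • z = n ⊗ₜ[R] (1 : p.ResidueField) := by
  induction z using TensorProduct.induction_on with
  | zero => exact ⟨1, fun h => ‹p.IsPrime›.ne_top ((Ideal.eq_top_iff_one _).2 h), 0, by rw [smul_zero, zero_tmul]⟩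
  | tmul n c =>
    obtain ⟨b, d, hd, rfl⟩ := IsFractionRing.div_surjective (R ⧸ p) c
    obtain ⟨b, rfl⟩ := Ideal.Quotient.mk_surjective b
    obtain ⟨d, rfl⟩ := Ideal.Quotient.mk_surjective d
    have hd' : algebraMap (R ⧸ p) p.ResidueField (Ideal.Quotient.mk p d) ≠ 0 :=
      (map_ne_zero_iff _ (IsFractionRing.injective (R ⧸ p) p.ResidueField)).2 (nonZeroDivisors.ne_zero hd)
    refine ⟨d, fun h => hd' (by rw [Ideal.Quotient.eq_zero_iff_mem.2 h, map_zero]), b • n, ?_⟩
    rw [smul_tmul', smul_tmul, smul_tmul]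
    congr 1
    rw [Algebra.smul_def, Algebra.smul_def, IsScalarTower.algebraMap_apply R (R ⧸ p) p.ResidueField,
      IsScalarTower.algebraMap_apply R (R ⧸ p) p.ResidueField, mul_one, Ideal.Quotient.algebraMap_eq,
      mul_div_cancel₀ _ hd']
  | add y w hy hw =>
    obtain ⟨r1, h1, n1, e1⟩ := hy
    obtain ⟨r2, h2, n2, e2⟩ := hw
    refine ⟨r1 * r2, fun h => (‹p.IsPrime›.mem_or_mem h).elim h1 h2, r2 • n1 + r1 • n2, ?_⟩
    rw [smul_add, add_tmul, mul_comm r1 r2, mul_smul, e1, mul_comm r2 r1, mul_smul, e2, smul_tmul', smul_tmul']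

theorem exists_smul_mem_of_tmul_one_eq_zero {n : N} (h : n ⊗ₜ[R] (1 : p.ResidueField) = 0) :
    ∃ u : R, u ∉ p ∧ u • n ∈ p • (⊤ : Submodule R N) := by
  let S' := Algebra.algebraMapSubmonoid (R ⧸ p) p.primeCompl
  haveI : IsLocalization S' p.ResidueField := by
    refine IsLocalization.iff_of_le_of_exists_dvd S' (nonZeroDivisors (R ⧸ p)) ?_ ?_ |>.2 inferInstance
    · rintro _ ⟨a, ha, rfl⟩
      exact mem_nonZeroDivisors_of_ne_zero fun e => ha (Ideal.Quotient.eq_zero_iff_mem.1 e)
    · intro d hd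
      obtain ⟨d, rfl⟩ := Ideal.Quotient.mk_surjective d
      exact ⟨_, ⟨d, fun e => nonZeroDivisors.ne_zero hd (Ideal.Quotient.eq_zero_iff_mem.2 e), rfl⟩, dvd_rfl⟩
  let f : (R ⧸ p) →ₗ[R] p.ResidueField := (IsScalarTower.toAlgHom R (R ⧸ p) p.ResidueField).toLinearMap
  haveI : IsLocalizedModule p.primeCompl f := isLocalizedModule_iff_isLocalization.2 ‹_›
  let F := AlgebraTensorModule.rTensor R N f
  have h0 : F ((1 : R ⧸ p) ⊗ₜ[R] n) = 0 := by
    show f 1 ⊗ₜ[R] n = 0
    rw [show f 1 = 1 from map_one (algebraMap (R ⧸ p) p.ResidueField), ← TensorProduct.comm_tmul, h, map_zero]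
  obtain ⟨u, hu⟩ := (IsLocalizedModule.eq_zero_iff p.primeCompl F).1 h0
  refine ⟨u, u.2, ?_⟩
  have hu' : (1 : R ⧸ p) ⊗ₜ[R] ((u : R) • n) = 0 := by rw [tmul_smul]; exact hu
  have h2 := congrArg (TensorProduct.quotTensorEquivQuotSMul N p) hu'
  rw [map_zero, ← map_one (Ideal.Quotient.mk p), TensorProduct.quotTensorEquivQuotSMul_mk_tmul, one_smul] at h2
  exact (Submodule.Quotient.mk_eq_zero _).1 h2

/-- Modulo the prime of the base, a prime of a finite type algebra is finitely generated at the fibre. -/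
theorem exists_gens [Algebra.FiniteType R S] (q : Ideal S) [q.IsPrime] [q.LiesOver p] :
    ∃ G : Finset S, (G : Set S) ⊆ q ∧ ∀ g ∈ q, ∃ u : R, u ∉ p ∧
      u • g ∈ Ideal.span (G : Set S) ⊔ p.map (algebraMap R S) := by
  classical
  haveI : IsNoetherianRing (p.Fiber S) := Algebra.FiniteType.isNoetherianRing p.ResidueField (p.Fiber S)
  obtain ⟨G, hG, hspan⟩ := (Submodule.fg_span_iff_fg_span_finset_subset (R := p.Fiber S) (toFib p '' (q : Set S))).1
    (IsNoetherian.noetherian _)
  obtain ⟨G', hG', rfl⟩ := Finset.subset_set_image_iff.1 hG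
  refine ⟨G', hG', fun g hg => ?_⟩
  have hgm : toFib p g ∈ (Ideal.span (G' : Set S)).map (toFib p) := by
    rw [Ideal.map_span, ← Finset.coe_image]
    have h' : toFib p g ∈ Submodule.span (p.Fiber S) (toFib p '' (q : Set S)) := Submodule.subset_span ⟨g, hg, rfl⟩
    rw [hspan] at h'
    exact h'
  let J := Ideal.span (G' : Set S)
  let π : p.Fiber S →ₗ[R] p.ResidueField ⊗[R] (S ⧸ J) :=
    LinearMap.lTensor p.ResidueField (Ideal.Quotient.mkₐ R J).toLinearMap
  let φ : p.Fiber S →ₐ[R] p.ResidueField ⊗[R] (S ⧸ J) :=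
    Algebra.TensorProduct.map (AlgHom.id R p.ResidueField) (Ideal.Quotient.mkₐ R J)
  have hker : J.map (toFib p) ≤ RingHom.ker φ.toRingHom := Ideal.map_le_iff_le_comap.2 fun t ht => by
    show φ ((1 : p.ResidueField) ⊗ₜ[R] t) = 0
    rw [Algebra.TensorProduct.map_tmul, Ideal.Quotient.mkₐ_eq_mk, Ideal.Quotient.eq_zero_iff_mem.2 ht, tmul_zero]
  have h1 := hker hgm
  change φ ((1 : p.ResidueField) ⊗ₜ[R] g) = 0 at h1
  rw [Algebra.TensorProduct.map_tmul, map_one, Ideal.Quotient.mkₐ_eq_mk] at h1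
  have h2 := congrArg (TensorProduct.comm R p.ResidueField (S ⧸ J)) h1
  rw [TensorProduct.comm_tmul, map_zero] at h2
  obtain ⟨u, hu, hmem⟩ := exists_smul_mem_of_tmul_one_eq_zero p h2
  refine ⟨u, hu, ?_⟩
  have hmap : (p • (⊤ : Submodule R (S ⧸ J))) =
      ((p.map (algebraMap R S)).restrictScalars R).map (Ideal.Quotient.mkₐ R J).toLinearMap := by
    rw [← Ideal.smul_top_eq_map, Submodule.map_smul'', Submodule.map_top,
      LinearMap.range_eq_top.2 Ideal.Quotient.mk_surjective]
  rw [hmap] at hmem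
  obtain ⟨y, hy, e⟩ := hmem
  have e' : Ideal.Quotient.mk J y = Ideal.Quotient.mk J (u • g) := e
  have h3 := Ideal.Quotient.eq.1 e'.symm
  have := add_mem (Submodule.mem_sup_left (T := p.map (algebraMap R S)) h3) (Submodule.mem_sup_right (S := J) hy)
  rwa [sub_add_cancel] at this

end GrothLib.WeakAssFib
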