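import Mathlib.RingTheory.LocalRing.ResidueField.Basic
import Mathlib.RingTheory.Nakayama
import Mathlib.RingTheory.OrzechProperty
import Mathlib.RingTheory.FiniteType
import Mathlib.LinearAlgebra.Basis.VectorSpace
import Mathlib.LinearAlgebra.TensorProduct.Basis
import Mathlib.LinearAlgebra.TensorProduct.Tower

/-!
# Maps of free modules over a local ring which are injective modulo the maximal ideal
-/

set_option autoImplicit false
set_option linter.all false
universe u

open TensorProduct IsLocalRing

namespace GrothLib.WeakAssFib

variable {R : Type u} [CommRing R] [IsLocalRing R]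

theorem mem_smul_top_iff_repr {F κ : Type u} [AddCommGroup F] [Module R F] (b : Module.Basis κ R F) (x : F) :
    x ∈ maximalIdeal R • (⊤ : Submodule R F) ↔ ∀ i, b.repr x i ∈ maximalIdeal R := by
  refine ⟨fun h i => ?_, fun h => ?_⟩
  · have h' := Submodule.mem_map_of_mem (f := b.coord i) h
    rw [Submodule.map_smul''] at h'
    exact Submodule.smul_le.2 (fun r hr y _ => Ideal.mul_mem_right y _ hr) h'
  · rw [← b.linearCombination_repr x, Finsupp.linearCombination_apply]
    exact Submodule.sum_mem _ fun i _ => Submodule.smul_mem_smul (h i) Submodule.mem_top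

/-- A map of free modules which is injective modulo the maximal ideal stays injective after tensoring. -/
theorem injective_lTensor_of_residue {F G : Type u} [AddCommGroup F] [Module R F] [Module.Free R F]
    [AddCommGroup G] [Module R G] [Module.Free R G] (φ : F →ₗ[R] G)
    (h : ∀ x, φ x ∈ maximalIdeal R • (⊤ : Submodule R G) → x ∈ maximalIdeal R • (⊤ : Submodule R F))
    (T : Type u) [AddCommGroup T] [Module R T] : Function.Injective (φ.lTensor T) := by
  classical
  let b := Module.Free.chooseBasis R F
  let c := Module.Free.chooseBasis R G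
  refine (injective_iff_map_eq_zero _).2 fun z hz => ?_
  let ι : (s : Finset (Module.Free.ChooseBasisIndex R F)) → (s → R) →ₗ[R] F :=
    fun s => Fintype.linearCombination R fun i : s => b i
  obtain ⟨s, w, rfl⟩ : ∃ s w, (ι s).lTensor T w = z := by
    let e := TensorProduct.equivFinsuppOfBasisRight (M := T) b
    refine ⟨(e z).support, ∑ i : {x // x ∈ (e z).support}, (e z i.1) ⊗ₜ[R] (Pi.single i 1 : {x // x ∈ (e z).support} → R), ?_⟩
    conv_rhs => rw [← e.symm_apply_apply z, TensorProduct.equivFinsuppOfBasisRight_symm_apply]
    rw [map_sum, Finsupp.sum]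
    refine (Finset.sum_congr rfl fun i _ => ?_).trans
      (Finset.sum_coe_sort (e z).support fun i => (e z i) ⊗ₜ[R] b i)
    simp [ι, Fintype.linearCombination_apply_single]
  let ψ := φ ∘ₗ ι s
  let k := ResidueField R
  let res : G → (Module.Free.ChooseBasisIndex R G →₀ k) := fun x =>
    (c.repr x).mapRange (residue R) (map_zero _)
  let v : s → (Module.Free.ChooseBasisIndex R G →₀ k) := fun i => res (ψ (Pi.single i 1))
  have hres : ∀ a : s → R, res (ψ a) = Fintype.linearCombination k v fun i => residue R (a i) := fun a => by
    ext j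
    conv_lhs => rw [← Finset.univ_sum_single a]
    simp only [res, Finsupp.mapRange_apply, map_sum, Fintype.linearCombination_apply, Finsupp.coe_finset_sum,
      Finset.sum_apply, Finsupp.smul_apply, v, smul_eq_mul]
    refine Finset.sum_congr rfl fun i _ => ?_
    rw [show (Pi.single i (a i) : s → R) = a i • Pi.single i 1 by rw [← Pi.single_smul', smul_eq_mul, mul_one],
      map_smul, map_smul, Finsupp.smul_apply, smul_eq_mul, map_mul]
  have hv : Function.Injective (Fintype.linearCombination k v) := (injective_iff_map_eq_zero _).2 fun a ha => by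
    choose a' ha' using fun i => residue_surjective (a i)
    obtain rfl : (fun i => residue R (a' i)) = a := funext ha'
    rw [← hres] at ha
    have h1 : ψ a' ∈ maximalIdeal R • (⊤ : Submodule R G) := (mem_smul_top_iff_repr c _).2 fun j => by
      have := DFunLike.congr_fun ha j
      rwa [Finsupp.mapRange_apply, Finsupp.zero_apply, residue_eq_zero_iff] at this
    have h2 := (mem_smul_top_iff_repr b _).1 (h _ h1)
    funext i
    have h3 := h2 i
    rw [show b.repr (ι s a') (i : _) = a' i by
      simp only [ι, Fintype.linearCombination_apply, map_sum, map_smul, b.repr_self, Finsupp.coe_finset_sum,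
        Finset.sum_apply, Finsupp.smul_apply, smul_eq_mul]
      rw [Finset.sum_eq_single i]
      · simp
      · intro j _ hj
        rw [Finsupp.single_apply, if_neg fun e => hj (Subtype.ext e), mul_zero]
      · simp] at h3
    exact (residue_eq_zero_iff _).2 h3
  obtain ⟨lk, hlk⟩ := LinearMap.exists_leftInverse_of_injective (Fintype.linearCombination k v)
    (LinearMap.ker_eq_bot.2 hv)
  choose L hL using fun j i => residue_surjective (R := R) (lk (Finsupp.single j 1) i)
  let l : G →ₗ[R] (s → R) := c.constr R fun j => L j
  have hl : ∀ x i, residue R (l x i) = lk (res x) i := fun x i => by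
    simp only [l, Module.Basis.constr_apply, Finsupp.sum, Finset.sum_apply, map_sum, Pi.smul_apply, smul_eq_mul,
      map_mul, hL]
    conv_rhs => rw [← Finsupp.sum_single (res x), map_finsuppSum]
    rw [Finsupp.sum_of_support_subset (res x) (s := (c.repr x).support) Finsupp.support_mapRange]
    · rw [Finset.sum_apply]
      refine Finset.sum_congr rfl fun j _ => ?_
      rw [Finsupp.mapRange_apply,
        show Finsupp.single j (residue R (c.repr x j)) = residue R (c.repr x j) • Finsupp.single j 1 from
          (Finsupp.smul_single_one j _).symm,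
        map_smul, Pi.smul_apply, smul_eq_mul]
    · intro j _
      simp
  have hsurj : Function.Surjective (l ∘ₗ ψ) := by
    rw [← LinearMap.range_eq_top, eq_top_iff]
    refine Submodule.le_of_le_smul_of_le_jacobson_bot (I := maximalIdeal R) Module.Finite.fg_top
      (maximalIdeal_le_jacobson _) fun a _ => ?_
    have h1 : a - l (ψ a) ∈ maximalIdeal R • (⊤ : Submodule R (s → R)) := by
      rw [← Finset.univ_sum_single (a - l (ψ a))]
      refine Submodule.sum_mem _ fun i _ => ?_
      rw [show (Pi.single i ((a - l (ψ a)) i) : s → R) = (a - l (ψ a)) i • Pi.single i 1 by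
        rw [← Pi.single_smul', smul_eq_mul, mul_one]]
      refine Submodule.smul_mem_smul ((residue_eq_zero_iff _).1 ?_) Submodule.mem_top
      have h2 := congrFun (LinearMap.congr_fun hlk fun i => residue R (a i)) i
      rw [LinearMap.comp_apply, ← hres, ← hl, LinearMap.id_apply] at h2
      rw [Pi.sub_apply, map_sub, h2, sub_self]
    have h3 := add_mem (Submodule.mem_sup_right (S := LinearMap.range (l ∘ₗ ψ)) h1)
      (Submodule.mem_sup_left (T := maximalIdeal R • (⊤ : Submodule R (s → R))) (LinearMap.mem_range_self (l ∘ₗ ψ) a))
    have e3 : a - l (ψ a) + (l ∘ₗ ψ) a = a := sub_add_cancel _ _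
    rwa [e3] at h3
  have hbij := OrzechProperty.bijective_of_surjective_endomorphism _ hsurj
  let e := LinearEquiv.ofBijective (l ∘ₗ ψ) hbij
  have h0 : ((l ∘ₗ ψ).lTensor T) w = 0 := by
    rw [LinearMap.lTensor_comp, LinearMap.comp_apply, LinearMap.lTensor_comp, LinearMap.comp_apply, hz, map_zero]
  have h4 : w = 0 := (e.lTensor T).injective (show (l ∘ₗ ψ).lTensor T w = (e.lTensor T) 0 by rw [h0, map_zero])
  rw [h4, map_zero]

end GrothLib.WeakAssFib
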