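import Groth.Agent.Lib.WeakAssFib.Down
import Groth.Agent.Lib.WeakAssFib.Free
import Groth.Agent.Lib.AdicFSLoc.FlatFibre
import Groth.Agent.Lib.FlatFP.Syzygy
import Mathlib.RingTheory.FinitePresentation
import Mathlib.RingTheory.Localization.AtPrime.Basic

/-!
# Weakly associated primes of flat finitely presented modules
-/

set_option autoImplicit false
set_option linter.all false
set_option maxHeartbeats 2000000
universe u

open TensorProduct

namespace GrothLib.WeakAssFib

open GrothLib.AssPts

variable {R S : Type u} [CommRing R] [CommRing S] [Algebra R S]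

attribute [local instance] MvPolynomial.algebraMvPolynomial in
/-- A flat finitely presented module comes from a flat module over a Noetherian ring. -/
theorem exists_model [Algebra.FinitePresentation R S] (N : Type u) [AddCommGroup N] [Module S N] [Module R N]
    [IsScalarTower R S N] [Module.FinitePresentation S N] [Module.Flat R N] :
    ∃ (R₀ : Type u) (_ : CommRing R₀) (_ : IsNoetherianRing R₀) (_ : Algebra R₀ R) (N₀ : Type u)
      (_ : AddCommGroup N₀) (_ : Module R₀ N₀), Module.Flat R₀ N₀ ∧ Nonempty (R ⊗[R₀] N₀ ≃ₗ[R] N) := by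
  obtain ⟨m, π, hπ, hker⟩ := Algebra.FinitePresentation.out (R := R) (A := S)
  letI : Algebra (MvPolynomial (Fin m) R) S := π.toRingHom.toAlgebra
  letI : Module (MvPolynomial (Fin m) R) N := Module.compHom N π.toRingHom
  haveI : IsScalarTower (MvPolynomial (Fin m) R) S N := IsScalarTower.of_algebraMap_smul fun _ _ => rfl
  haveI : IsScalarTower R (MvPolynomial (Fin m) R) N := IsScalarTower.of_algebraMap_smul fun r x => by
    show π (algebraMap R (MvPolynomial (Fin m) R) r) • x = r • x
    rw [π.commutes, algebraMap_smul]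
  haveI : Module.FinitePresentation (MvPolynomial (Fin m) R) S :=
    Module.finitePresentation_of_surjective (Algebra.linearMap (MvPolynomial (Fin m) R) S) hπ hker
  haveI : Module.FinitePresentation (MvPolynomial (Fin m) R) N :=
    Module.FinitePresentation.trans (MvPolynomial (Fin m) R) N S
  obtain ⟨R₃, _, _, hft, -, N₃, _, _, _, _, _, hflat, -, -, ⟨eN⟩⟩ :=
    GrothLib.FlatModel.exists_flat_model (R := R) (m := m) N (q := 0) Fin.elim0 fun j => j.elim0
  haveI : IsNoetherianRing R₃ := Algebra.FiniteType.isNoetherianRing ℤ R₃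
  exact ⟨R₃, inferInstance, inferInstance, inferInstance, N₃, inferInstance, inferInstance, hflat,
    ⟨(GrothLib.FibreFlat.cancel (m := m) N₃ R).symm ≪≫ₗ eN.restrictScalars R⟩⟩

theorem free_baseChange {R₀ R C R' N₀ N : Type u} [CommRing R₀] [CommRing R] [CommRing C] [CommRing R']
    [Algebra R₀ R] [Algebra R₀ C] [Algebra R₀ R'] [Algebra R R'] [IsScalarTower R₀ R R'] [Algebra C R']
    [IsScalarTower R₀ C R'] [AddCommGroup N₀] [Module R₀ N₀] [Module.Flat R₀ N₀] [AddCommGroup N] [Module R N]
    (e : R ⊗[R₀] N₀ ≃ₗ[R] N) (J : Ideal C) [J.IsMaximal] (hJ : IsNilpotent J) :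
    Module.Free R' (R' ⊗[R] N) := by
  haveI : Module.Free C (C ⊗[R₀] N₀) := GrothLib.AdicFSLoc.free_of_flat_of_nilpotent J hJ
  exact Module.Free.of_equiv
    (TensorProduct.AlgebraTensorModule.cancelBaseChange R₀ C R' R' N₀ ≪≫ₗ
      (TensorProduct.AlgebraTensorModule.cancelBaseChange R₀ R R' R' N₀).symm ≪≫ₗ
      TensorProduct.AlgebraTensorModule.congr (LinearEquiv.refl R' R') e)

variable (p : Ideal R) [p.IsPrime]

/-- Regularity on the fibre gives injectivity on tensor products with modules over a local thickening. -/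
theorem eq_zero_of_regular {N : Type u} [AddCommGroup N] [Module S N] [Module R N] [IsScalarTower R S N]
    {R' : Type u} [CommRing R'] [IsLocalRing R'] [Algebra R R'] [Module.Free R' (R' ⊗[R] N)]
    (ρ : R' →ₐ[R] p.ResidueField) (hρs : Function.Surjective ρ) (hρ : RingHom.ker ρ.toRingHom = IsLocalRing.maximalIdeal R')
    (t : S) (ht : ∀ y : N ⊗[R] p.ResidueField, t • y = 0 → y = 0)
    {T : Type u} [AddCommGroup T] [Module R T] [Module R' T] [IsScalarTower R R' T]
    (w : N ⊗[R] T) (hw : t • w = 0) : w = 0 := by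
  let μ : N →ₗ[R] N := (LinearMap.lsmul S N t).restrictScalars R
  let φ : R' ⊗[R] N →ₗ[R'] R' ⊗[R] N := μ.baseChange R'
  let π : R' ⊗[R] N →ₗ[R] N ⊗[R] p.ResidueField :=
    (TensorProduct.comm R p.ResidueField N).toLinearMap ∘ₗ ρ.toLinearMap.rTensor N
  have hmem : ∀ x, x ∈ IsLocalRing.maximalIdeal R' • (⊤ : Submodule R' (R' ⊗[R] N)) ↔ π x = 0 := fun x => by
    constructor
    · intro hx
      refine Submodule.smul_induction_on hx (fun a ha y hy => ?_) fun a b ha hb => by rw [map_add, ha, hb, add_zero]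
      clear hy hx
      induction y using TensorProduct.induction_on with
      | zero => rw [smul_zero, map_zero]
      | add u v hu hv => rw [smul_add, map_add, hu, hv, add_zero]
      | tmul b n =>
        have h0 : ρ (a • b) = 0 := by
          rw [smul_eq_mul, map_mul]
          rw [show ρ a = 0 from hρ.ge ha, zero_mul]
        rw [smul_tmul']
        show TensorProduct.comm R p.ResidueField N (ρ (a • b) ⊗ₜ[R] n) = 0
        rw [h0, zero_tmul, map_zero]
    · intro hx
      have hex : Function.Exact (((IsLocalRing.maximalIdeal R').restrictScalars R).subtype) ρ.toLinearMap := by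
        intro y
        refine ⟨fun hy => ⟨⟨y, hρ.le hy⟩, rfl⟩, ?_⟩
        rintro ⟨⟨y, hy⟩, rfl⟩
        exact hρ.ge hy
      obtain ⟨v, rfl⟩ := ((rTensor_exact (R := R) N hex hρs) x).1
        ((TensorProduct.comm R p.ResidueField N).injective (hx.trans (map_zero _).symm))
      clear hx
      induction v using TensorProduct.induction_on with
      | zero => rw [map_zero]; exact zero_mem _
      | add u v hu hv => rw [map_add]; exact add_mem hu hv
      | tmul a n =>
        rw [LinearMap.rTensor_tmul, Submodule.subtype_apply,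
          show (a : R') ⊗ₜ[R] n = (a : R') • ((1 : R') ⊗ₜ[R] n) by rw [smul_tmul', smul_eq_mul, mul_one]]
        exact Submodule.smul_mem_smul a.2 Submodule.mem_top
  have hπφ : ∀ x, π (φ x) = t • π x := fun x => by
    induction x using TensorProduct.induction_on with
    | zero => simp
    | add u v hu hv => simp only [map_add, hu, hv, smul_add]
    | tmul b n => simp [π, φ, μ, smul_tmul']
  have hinj := injective_lTensor_of_residue φ (fun x hx => (hmem x).2 (ht _ (by rw [← hπφ]; exact (hmem _).1 hx))) T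
  let Θ : N ⊗[R] T ≃ₗ[R] T ⊗[R'] (R' ⊗[R] N) :=
    TensorProduct.comm R N T ≪≫ₗ (TensorProduct.AlgebraTensorModule.cancelBaseChange R R' R' T N).symm.restrictScalars R
  have hΘ : ∀ v, Θ (t • v) = φ.lTensor T (Θ v) := fun v => by
    induction v using TensorProduct.induction_on with
    | zero => simp
    | add u v hu hv => simp only [smul_add, map_add, hu, hv]
    | tmul n x => simp [Θ, φ, μ, smul_tmul']
  refine Θ.injective ((hinj ?_).trans (map_zero Θ).symm)
  rw [← hΘ, hw, map_zero, map_zero]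

variable (N : Type u) [AddCommGroup N] [Module S N] [Module R N] [IsScalarTower R S N]
  (M : Type u) [AddCommGroup M] [Module R M] (q : Ideal S) [q.IsPrime] [q.LiesOver p]

/-- The case where the elements outside the prime are regular on the fibre. -/
theorem of_regular [Algebra.FinitePresentation R S] [Module.FinitePresentation S N] [Module.Flat R N]
    (H : ∀ t ∉ q, ∀ y : N ⊗[R] p.ResidueField, t • y = 0 → y = 0) (hq : q ∈ FlatCA.weakAss S (N ⊗[R] M)) :
    p ∈ FlatCA.weakAss R M ∧ ∀ g ∈ q, ∃ y : N ⊗[R] p.ResidueField, g • y = 0 ∧ y ≠ 0 := by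
  classical
  have hover : ∀ r : R, r ∈ p ↔ algebraMap R S r ∈ q := fun r => Ideal.mem_of_liesOver q p r
  obtain ⟨z, hz⟩ := mem_weakAss_iff.1 hq
  obtain ⟨R₀, _, _, _, N₀, _, _, hflat₀, ⟨e⟩⟩ := exists_model (R := R) (S := S) N
  let p₀ := p.comap (algebraMap R₀ R)
  -- kill the generators of the prime of the model exactly
  obtain ⟨G, hG⟩ := (IsNoetherian.noetherian p₀ : p₀.FG)
  have hex : ∀ x ∈ G, ∃ t ∉ q, ∃ n : ℕ, (t * algebraMap R S (algebraMap R₀ R x) ^ n) • z = 0 := fun x hx => by
    obtain ⟨t, ht, n, hn⟩ := exists_mul_pow_mem_of_minimal hz ((hover _).1 (hG.le (Ideal.subset_span hx)))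
    rw [Submodule.mem_colon_singleton, Submodule.mem_bot] at hn
    exact ⟨t, ht, n, hn⟩
  choose! t ht n hn using hex
  let Tm := ∏ x ∈ G, t x
  have hTm : Tm ∉ q := fun h => by
    obtain ⟨g, hg, hg'⟩ := ‹q.IsPrime›.prod_mem_iff.1 h
    exact ht g hg hg'
  let z₁ := Tm • z
  have hz₁ : ∀ s : S, s • z₁ = 0 → s ∈ q := fun s hs => by
    have : s * Tm ∈ (⊥ : Submodule S (N ⊗[R] M)).colon {z} := by
      rw [Submodule.mem_colon_singleton, Submodule.mem_bot, mul_smul]; exact hs
    exact (‹q.IsPrime›.mem_or_mem (hz.1.2 this)).resolve_right hTm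
  have hnil : ∀ g ∈ q, ∃ s ∉ q, ∃ n : ℕ, s • (g ^ n • z₁) = 0 := fun g hg => by
    obtain ⟨s, hs, n, hn⟩ := exists_mul_pow_mem_of_minimal hz hg
    rw [Submodule.mem_colon_singleton, Submodule.mem_bot] at hn
    exact ⟨s, hs, n, by rw [smul_smul, smul_comm, hn, smul_zero]⟩
  obtain ⟨k, hk⟩ : ∃ k : ℕ, ∀ a ∈ p₀ ^ (k + 1), algebraMap R₀ R a • z₁ = 0 := by
    let I₀ : Ideal R₀ := ((⊥ : Submodule S (N ⊗[R] M)).colon {z₁}).comap
      ((algebraMap R S).comp (algebraMap R₀ R))
    have hle : p₀ ≤ I₀.radical := by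
      rw [← hG]
      refine Submodule.span_le.2 fun x hx => ⟨n x, ?_⟩
      rw [Ideal.mem_comap, Submodule.mem_colon_singleton, Submodule.mem_bot, RingHom.comp_apply, map_pow, map_pow,
        smul_smul, show Tm = t x * ∏ y ∈ G.erase x, t y from (Finset.mul_prod_erase G t hx).symm, ← mul_assoc,
        mul_comm (_ ^ _) (t x), mul_comm, mul_smul, hn x hx, smul_zero]
    obtain ⟨k, hk⟩ := Ideal.exists_pow_le_of_le_radical_of_fg hle ⟨G, hG⟩
    refine ⟨k, fun a ha => ?_⟩
    have h := hk (Ideal.pow_le_pow_right (Nat.le_succ k) ha)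
    rw [Ideal.mem_comap, Submodule.mem_colon_singleton, Submodule.mem_bot, RingHom.comp_apply, algebraMap_smul] at h
    exact h
  -- the rings
  let A₀ := Localization.AtPrime p₀
  let Rp := Localization.AtPrime p
  let κ₀ : A₀ →+* Rp := Localization.localRingHom p₀ p (algebraMap R₀ R) rfl
  letI : Algebra A₀ Rp := κ₀.toAlgebra
  haveI : IsScalarTower R₀ A₀ Rp := IsScalarTower.of_algebraMap_eq fun a => by
    rw [RingHom.algebraMap_toAlgebra, Localization.localRingHom_to_map, ← IsScalarTower.algebraMap_apply]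
  let m₀ := IsLocalRing.maximalIdeal A₀
  let J₀ : Ideal A₀ := m₀ ^ (k + 1)
  let C := A₀ ⧸ J₀
  let J' : Ideal Rp := (p₀ ^ (k + 1)).map (algebraMap R₀ Rp)
  have hJ' : J₀.map (algebraMap A₀ Rp) = J' := by
    show (m₀ ^ (k + 1)).map (algebraMap A₀ Rp) = _
    rw [show m₀ = p₀.map (algebraMap R₀ A₀) from Localization.AtPrime.map_eq_maximalIdeal.symm, ← Ideal.map_pow,
      Ideal.map_map, ← IsScalarTower.algebraMap_eq]
  have hJ'le : J' ≤ IsLocalRing.maximalIdeal Rp := by
    refine Ideal.map_le_iff_le_comap.2 ((Ideal.pow_le_self (Nat.succ_ne_zero k)).trans fun a ha => ?_)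
    rw [Ideal.mem_comap, IsScalarTower.algebraMap_apply R₀ R Rp, ← Localization.AtPrime.map_eq_maximalIdeal]
    exact Ideal.mem_map_of_mem _ ha
  let R' := Rp ⧸ J'
  haveI : Nontrivial R' := Ideal.Quotient.nontrivial_iff.2 fun h =>
    (IsLocalRing.maximalIdeal.isMaximal Rp).ne_top (top_le_iff.1 (h ▸ hJ'le))
  haveI : IsLocalRing R' := IsLocalRing.of_surjective' (Ideal.Quotient.mk J') Ideal.Quotient.mk_surjective
  letI : Algebra C R' := (Ideal.Quotient.lift J₀ ((Ideal.Quotient.mk J').comp (algebraMap A₀ Rp))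
    fun a ha => Ideal.Quotient.eq_zero_iff_mem.2 (hJ' ▸ Ideal.mem_map_of_mem _ ha)).toAlgebra
  haveI : IsScalarTower R₀ C R' := IsScalarTower.of_algebraMap_eq (R := R₀) (S := C) (A := R') fun a => by
    show algebraMap R₀ R' a = Ideal.Quotient.mk J' (algebraMap A₀ Rp (algebraMap R₀ A₀ a))
    rw [← IsScalarTower.algebraMap_apply]
    rfl
  haveI : (m₀.map (Ideal.Quotient.mk J₀)).IsMaximal :=
    Ideal.IsMaximal.map_of_surjective_of_ker_le Ideal.Quotient.mk_surjective (by
      rw [Ideal.mk_ker]; exact Ideal.pow_le_self k.succ_ne_zero)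
  haveI : Module.Free R' (R' ⊗[R] N) := free_baseChange (C := C) e (m₀.map (Ideal.Quotient.mk J₀))
    ⟨k + 1, by rw [← Ideal.map_pow, Ideal.map_quotient_self, Ideal.zero_eq_bot]⟩
  let ρ : R' →ₐ[R] p.ResidueField := Ideal.Quotient.liftₐ J' (IsScalarTower.toAlgHom R Rp p.ResidueField)
    fun a ha => (IsLocalRing.residue_eq_zero_iff a).2 (hJ'le ha)
  have hρs : Function.Surjective ρ := fun y => by
    obtain ⟨a, rfl⟩ := IsLocalRing.residue_surjective y
    exact ⟨Ideal.Quotient.mk J' a, rfl⟩
  have hρ : RingHom.ker ρ.toRingHom = IsLocalRing.maximalIdeal R' := by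
    haveI : (RingHom.ker ρ.toRingHom).IsMaximal := RingHom.ker_isMaximal_of_surjective _ hρs
    exact (IsLocalRing.eq_maximalIdeal ‹_›)
  -- move to the torsion submodule of the localization
  let M' := LocalizedModule p.primeCompl M
  let Tt : Submodule Rp M' := Submodule.torsionBySet Rp M' J'
  letI : Module R' Tt := inferInstanceAs (Module (Rp ⧸ J') (Submodule.torsionBySet Rp M' J'))
  haveI : IsScalarTower R R' Tt := IsScalarTower.of_algebraMap_smul (R := R) (A := R') (M := Tt) fun r x => by
    show Ideal.Quotient.mk J' (algebraMap R Rp r) • x = r • x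
    rw [Submodule.torsionBySet.mk_smul, algebraMap_smul]
  obtain ⟨l, a, ha⟩ := Submodule.fg_iff_exists_fin_generating_family.1
    (IsNoetherian.noetherian (p₀ ^ (k + 1)) : (p₀ ^ (k + 1)).FG)
  let Ψ : M' →ₗ[R] (Fin l → M') := LinearMap.pi fun i => LinearMap.lsmul R M' (algebraMap R₀ R (a i))
  have hexact : Function.Exact (Tt.subtype.restrictScalars R) Ψ := by
    intro y
    refine ⟨fun hy => ⟨⟨y, ?_⟩, rfl⟩, ?_⟩
    · refine (Submodule.mem_torsionBySet_iff _ _).2 ?_
      rintro ⟨b, hb⟩
      show b • y = 0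
      have hle : J' ≤ Module.annihilator Rp (Submodule.span Rp {y}) := by
        refine Ideal.map_le_iff_le_comap.2 (ha.ge.trans (Submodule.span_le.2 ?_))
        rintro _ ⟨i, rfl⟩
        refine Submodule.mem_annihilator.2 fun v hv => ?_
        obtain ⟨c, rfl⟩ := Submodule.mem_span_singleton.1 hv
        rw [smul_comm, IsScalarTower.algebraMap_apply R₀ R Rp, algebraMap_smul]
        rw [show algebraMap R₀ R (a i) • y = 0 from congrFun hy i, smul_zero]
      exact Submodule.mem_annihilator.1 (hle hb) y (Submodule.mem_span_singleton_self y)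
    · rintro ⟨⟨y, hy⟩, rfl⟩
      funext i
      show algebraMap R₀ R (a i) • y = 0
      rw [← algebraMap_smul Rp (algebraMap R₀ R (a i)) y, ← IsScalarTower.algebraMap_apply]
      exact (Submodule.mem_torsionBySet_iff _ _).1 hy ⟨_, Ideal.mem_map_of_mem _ (ha.le (Submodule.subset_span ⟨i, rfl⟩))⟩
  let ιM : M →ₗ[R] M' := LocalizedModule.mkLinearMap p.primeCompl M
  let L : N ⊗[R] M →ₗ[S] N ⊗[R] M' := TensorProduct.AlgebraTensorModule.lTensor S N ιM
  have hz1ne : L z₁ ≠ 0 := fun h0 => by
    let F := TensorProduct.AlgebraTensorModule.rTensor R N ιM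
    have h1 : F (TensorProduct.comm R N M z₁) = 0 := by
      have hcomm : ∀ v, F (TensorProduct.comm R N M v) = TensorProduct.comm R N M' (L v) := fun v => by
        induction v using TensorProduct.induction_on with
        | zero => simp
        | add u v hu hv => simp only [map_add, hu, hv]
        | tmul x y => rfl
      rw [hcomm, h0, map_zero]
    obtain ⟨r, hr⟩ := (IsLocalizedModule.eq_zero_iff p.primeCompl F).1 h1
    have h2 : (r : R) • z₁ = 0 := (TensorProduct.comm R N M).injective (by rw [map_smul, map_zero]; exact hr)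
    exact r.2 ((hover r).2 (hz₁ _ (by rw [algebraMap_smul]; exact h2)))
  obtain ⟨w, hw⟩ : ∃ w : N ⊗[R] Tt, TensorProduct.AlgebraTensorModule.lTensor S N (Tt.subtype.restrictScalars R) w = L z₁ := by
    refine ((Module.Flat.lTensor_exact N hexact) (L z₁)).1 ?_
    apply (TensorProduct.piRight R R N (fun _ : Fin l => M')).injective
    rw [map_zero]
    funext i
    have hnat : ∀ v : N ⊗[R] M', TensorProduct.piRight R R N (fun _ : Fin l => M') (Ψ.lTensor N v) i =
        algebraMap R₀ R (a i) • v := fun v => by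
      induction v using TensorProduct.induction_on with
      | zero => simp
      | add u v hu hv => simp only [map_add, Pi.add_apply, hu, hv, smul_add]
      | tmul x y => simp [Ψ]
    rw [hnat, Pi.zero_apply, ← LinearMap.map_smul_of_tower, hk _ (ha.le (Submodule.subset_span ⟨i, rfl⟩)), map_zero]
  let Lt : N ⊗[R] Tt →ₗ[S] N ⊗[R] M' := TensorProduct.AlgebraTensorModule.lTensor S N (Tt.subtype.restrictScalars R)
  have hLt : Function.Injective Lt :=
    Module.Flat.lTensor_preserves_injective_linearMap (Tt.subtype.restrictScalars R) Subtype.val_injective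
  have hwne : w ≠ 0 := fun h => hz1ne (by rw [← hw, h, map_zero])
  have hpow : ∀ g ∈ q, ∃ n : ℕ, g ^ n • w = 0 := fun g hg => by
    obtain ⟨s, hs, n, hn⟩ := hnil g hg
    refine ⟨n, eq_zero_of_regular p ρ hρs hρ s (H s hs) _ (hLt ?_)⟩
    rw [map_smul, map_smul, show Lt w = L z₁ from hw, ← map_smul, ← map_smul, hn, map_zero, map_zero]
  refine ⟨?_, fun g hg => ?_⟩
  · let b := Module.Free.chooseBasis R' (R' ⊗[R] N)
    let Θ : N ⊗[R] Tt ≃ₗ[R] (Module.Free.ChooseBasisIndex R' (R' ⊗[R] N) →₀ Tt) :=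
      TensorProduct.comm R N Tt ≪≫ₗ (TensorProduct.AlgebraTensorModule.cancelBaseChange R R' R' Tt N).symm.restrictScalars R ≪≫ₗ
        (TensorProduct.equivFinsuppOfBasisRight b).restrictScalars R
    obtain ⟨i, hi⟩ : ∃ i, Θ w i ≠ 0 := by
      by_contra hcon
      push Not at hcon
      exact hwne ((LinearEquiv.map_eq_zero_iff Θ).1 (Finsupp.ext hcon))
    obtain ⟨⟨m, s⟩, hms⟩ := IsLocalizedModule.surj p.primeCompl ιM ((Θ w i : Tt) : M')
    change (s : R) • ((Θ w i : Tt) : M') = ιM m at hms
    refine mem_weakAss_iff.2 ⟨m, ⟨‹p.IsPrime›, fun r hr => ?_⟩, ?_⟩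
    · rw [Submodule.mem_colon_singleton, Submodule.mem_bot] at hr
      by_contra hrp
      refine hi (Subtype.ext ?_)
      have h1 : ((r * s : R)) • ((Θ w i : Tt) : M') = 0 := by rw [mul_smul, hms, ← map_smul, hr, map_zero]
      exact ((Module.End.isUnit_iff _).1 (IsLocalizedModule.map_units ιM (⟨r, hrp⟩ * s))).1
        (by rw [Module.algebraMap_end_apply, Submodule.coe_zero, map_zero]; exact h1)
    · rintro P ⟨hP, hPle⟩ hPp r hr
      obtain ⟨n, hn⟩ := hpow _ ((hover r).1 hr)
      rw [← map_pow, algebraMap_smul] at hn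
      have h1 : r ^ n • Θ w i = 0 := by
        rw [← Finsupp.smul_apply, ← map_smul, hn, map_zero, Finsupp.zero_apply]
      have h2 : ιM (r ^ n • m) = 0 := by
        rw [map_smul, ← hms, smul_comm, ← Submodule.coe_smul_of_tower, h1, Submodule.coe_zero, smul_zero]
      obtain ⟨s', hs'⟩ := (IsLocalizedModule.eq_zero_iff p.primeCompl ιM).1 h2
      have h3 : (s' : R) * r ^ n ∈ P := hPle (Submodule.mem_colon_singleton.2 ((Submodule.mem_bot R).2
        (by rw [mul_smul]; exact hs')))
      exact hP.mem_of_pow_mem n ((hP.mem_or_mem h3).resolve_left fun h => s'.2 (hPp h))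
  · by_contra hcon
    push Not at hcon
    obtain ⟨n, hn⟩ := hpow g hg
    refine hwne ?_
    clear hpow hg hw
    induction n with
    | zero => rwa [pow_zero, one_smul] at hn
    | succ n ih => exact ih (eq_zero_of_regular p ρ hρs hρ g hcon _ (by rw [smul_smul, ← pow_succ']; exact hn))

end GrothLib.WeakAssFib
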