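import Groth.Agent.Lib.WeakAssFib.Fibre
import Mathlib.RingTheory.Flat.Basic

/-!
# Weakly associated primes from the base and the fibre
-/

set_option autoImplicit false
set_option linter.all false
set_option maxHeartbeats 1000000
universe u

open TensorProduct

namespace GrothLib.WeakAssFib

open GrothLib.AssPts

variable {R S : Type u} [CommRing R] [CommRing S] [Algebra R S]

theorem exists_mul_pow_mem_of_minimal {A : Type*} [CommRing A] {q J : Ideal A} (hq : q ∈ J.minimalPrimes)
    {x : A} (hx : x ∈ q) : ∃ t ∉ q, ∃ n : ℕ, t * x ^ n ∈ J := by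
  haveI := hq.1.1
  by_contra hne
  push Not at hne
  have hd : Disjoint (J : Set A) ((q.primeCompl ⊔ Submonoid.powers x : Submonoid A) : Set A) := by
    rw [Set.disjoint_left]
    intro a haI ha
    obtain ⟨s, hs, _, ⟨n, rfl⟩, rfl⟩ := Submonoid.mem_sup.1 ha
    exact hne s hs n haI
  obtain ⟨P, hP, hJP, hdP⟩ := Ideal.exists_le_prime_disjoint J _ hd
  have hPq : P ≤ q := fun a ha => by_contra fun hne' =>
    Set.disjoint_left.1 hdP ha (Submonoid.mem_sup_left (T := Submonoid.powers x) hne')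
  exact Set.disjoint_left.1 hdP (hq.2 ⟨hP, hJP⟩ hPq hx) (Submonoid.mem_sup_right (Submonoid.mem_powers x))

/-- An element of the extension of a finitely generated ideal. -/
theorem exists_fg_le {N : Type u} [AddCommGroup N] [Module R N] {p : Ideal R} {n : N}
    (h : n ∈ p • (⊤ : Submodule R N)) : ∃ J : Ideal R, J.FG ∧ J ≤ p ∧ n ∈ J • (⊤ : Submodule R N) := by
  refine Submodule.smul_induction_on h (fun r hr m hm => ⟨Ideal.span {r}, Submodule.fg_span_singleton r,
    (Ideal.span_singleton_le_iff_mem _).2 hr, Submodule.smul_mem_smul (Ideal.mem_span_singleton_self r) hm⟩)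
    fun x y hx hy => ?_
  · obtain ⟨J, h1, h2, h3⟩ := hx
    obtain ⟨J', h1', h2', h3'⟩ := hy
    exact ⟨J ⊔ J', Submodule.FG.sup h1 h1', sup_le h2 h2', add_mem (Submodule.smul_mono_left le_sup_left h3)
      (Submodule.smul_mono_left le_sup_right h3')⟩

variable (N : Type u) [AddCommGroup N] [Module S N] [Module R N] [IsScalarTower R S N]
  (M : Type u) [AddCommGroup M] [Module R M] (p : Ideal R) [p.IsPrime] (q : Ideal S) [q.IsPrime] [q.LiesOver p]

/-- **Weakly associated primes of the base and of the fibre give weakly associated primes.** -/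
theorem mem_weakAss_of_fibre [Algebra.FiniteType R S] (hflat : Module.Flat R (LocalizedModule q.primeCompl N))
    (hp : p ∈ FlatCA.weakAss R M)
    (hq : FlatCA.fiberIdeal p q ∈ associatedPrimes (p.Fiber S) (FlatCA.fiberMod p S N)) :
    q ∈ FlatCA.weakAss S (N ⊗[R] M) := by
  classical
  have hover : ∀ r : R, r ∈ p ↔ algebraMap R S r ∈ q := fun r => Ideal.mem_of_liesOver q p r
  -- the element of the fibre
  haveI : IsNoetherianRing (p.Fiber S) := Algebra.FiniteType.isNoetherianRing p.ResidueField (p.Fiber S)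
  obtain ⟨e, he⟩ := exists_fibreEquiv p (S := S) N
  obtain ⟨m, hm⟩ := mem_weakAss_iff.1 hp
  -- replace `w` by an element with exact annihilator
  obtain ⟨_, w', hw'⟩ := isAssociatedPrime_iff.1 hq
  obtain ⟨w, rfl⟩ := e.surjective w'
  obtain ⟨r, hr, n, hn⟩ := exists_smul_eq_tmul_one p w
  have hann : ∀ s : S, s • (n ⊗ₜ[R] (1 : p.ResidueField)) = 0 ↔ s ∈ q := fun s => by
    rw [← hn, ← algebraMap_smul S r w, smul_smul]
    have h1 : (s * algebraMap R S r) • w = 0 ↔ s * algebraMap R S r ∈ q := by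
      rw [← e.map_eq_zero_iff, he]
      have h2 := SetLike.ext_iff.1 hw' (toFib p (s * algebraMap R S r))
      rw [Submodule.mem_colon_singleton, Submodule.mem_bot] at h2
      rw [← h2]
      exact SetLike.ext_iff.1 (comap_fiberIdeal p q) _
    rw [h1]
    exact ⟨fun h => (‹q.IsPrime›.mem_or_mem h).resolve_right fun h' => hr ((hover r).2 h'),
      fun h => q.mul_mem_right _ h⟩
  -- finitely many equations
  obtain ⟨G, hGq, hG⟩ := exists_gens p q
  have hgn : ∀ g ∈ G, ∃ u : R, u ∉ p ∧ ∃ J : Ideal R, J.FG ∧ J ≤ p ∧ u • g • n ∈ J • (⊤ : Submodule R N) := by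
    intro g hg
    have h0 : (g • n) ⊗ₜ[R] (1 : p.ResidueField) = 0 := by rw [← smul_tmul']; exact (hann g).2 (hGq hg)
    obtain ⟨u, hu, hmem⟩ := exists_smul_mem_of_tmul_one_eq_zero p h0
    exact ⟨u, hu, exists_fg_le hmem⟩
  choose! u hu Jg hJfg hJp hJn using hgn
  let U := ∏ g ∈ G, u g
  let J := G.sup Jg
  have hU : U ∉ p := fun h => by
    obtain ⟨g, hg, hg'⟩ := ‹p.IsPrime›.prod_mem_iff.1 h
    exact hu g hg hg'
  have hJ : J.FG ∧ J ≤ p := ⟨Submodule.fg_finset_sup G Jg hJfg, Finset.sup_le hJp⟩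
  set I := (⊥ : Submodule R M).colon {m} with hI
  obtain ⟨s0, hs0, a, haI, haJ⟩ : ∃ s0 : R, s0 ∉ p ∧ ∃ a : R, (∀ s ∉ p, s * a ∉ I) ∧ ∀ j ∈ J, s0 * a * j ∈ I := by
    obtain ⟨Gj, hGj⟩ := hJ.1
    have hex : ∀ j ∈ Gj, ∃ t ∉ p, ∃ k : ℕ, t * j ^ k ∈ I := fun j hj =>
      exists_mul_pow_mem_of_minimal hm (hJ.2 (hGj ▸ Ideal.subset_span hj))
    choose! t ht k hk using hex
    have hbig : ∃ (K : ℕ) (s : R), s ∉ p ∧ ∀ x ∈ J ^ K, s * x ∈ I := by
      have hle : J ≤ Ideal.radical (Submodule.comap (LinearMap.mulLeft R (∏ j ∈ Gj, t j)) I : Ideal R) := by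
        rw [← hGj]
        refine Submodule.span_le.2 fun j hj => ⟨k j, ?_⟩
        show (∏ j ∈ Gj, t j) * j ^ k j ∈ I
        rw [← Finset.mul_prod_erase Gj t hj, mul_comm (t j), mul_assoc]
        exact I.mul_mem_left _ (hk j hj)
      obtain ⟨K, hK⟩ := Ideal.exists_pow_le_of_le_radical_of_fg hle hJ.1
      refine ⟨K, ∏ j ∈ Gj, t j, fun h => ?_, fun x hx => hK hx⟩
      obtain ⟨g, hg, hg'⟩ := ‹p.IsPrime›.prod_mem_iff.1 h
      exact ht g hg hg'
    have hex' : ∃ K : ℕ, ∃ s : R, s ∉ p ∧ ∀ x ∈ J ^ K, s * x ∈ I := hbig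
    classical
    obtain ⟨s, hs, hsK⟩ := Nat.find_spec hex'
    obtain ⟨K, hK⟩ : ∃ K, Nat.find hex' = K + 1 := by
      refine Nat.exists_eq_succ_of_ne_zero fun h0 => hs (hm.1.2 ?_)
      have := hsK 1 (by rw [h0, pow_zero, Ideal.one_eq_top]; exact Submodule.mem_top)
      rwa [mul_one] at this
    rw [hK] at hsK
    refine ⟨s, hs, ?_⟩
    by_contra hne
    push Not at hne
    have hne' : ∀ a ∈ J ^ K, ∃ s' ∉ p, s' * a ∈ I := fun a ha => by
      by_contra hc
      push Not at hc
      obtain ⟨j, hj, hj'⟩ := hne a hc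
      exact hj' (by rw [mul_assoc]; exact hsK _ (by rw [pow_succ]; exact Ideal.mul_mem_mul ha hj))
    obtain ⟨GK, hGK⟩ := Submodule.FG.pow hJ.1 K
    choose! s' hs' hs'' using fun a (ha : a ∈ GK) => hne' a (hGK ▸ Ideal.subset_span ha)
    refine (Nat.find_min hex' (show K < Nat.find hex' by omega)) ⟨∏ a ∈ GK, s' a, fun h => ?_, fun x hx => ?_⟩
    · obtain ⟨g, hg, hg'⟩ := ‹p.IsPrime›.prod_mem_iff.1 h
      exact hs' g hg hg'
    · have hx' : x ∈ Submodule.span R (GK : Set R) := hGK.symm ▸ hx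
      clear hx
      induction hx' using Submodule.span_induction with
      | mem y hy =>
        rw [← Finset.mul_prod_erase GK s' hy, mul_comm (s' y), mul_assoc]
        exact I.mul_mem_left _ (hs'' y hy)
      | zero => rw [mul_zero]; exact zero_mem _
      | add y z _ _ hy hz => rw [mul_add]; exact add_mem hy hz
      | smul c y _ hy => rw [smul_eq_mul, mul_left_comm]; exact I.mul_mem_left _ hy
  -- the element
  let c := s0 * a
  refine mem_weakAss_iff.2 ⟨(U • n) ⊗ₜ[R] (c • m), ⟨inferInstance, fun s hs => ?_⟩, ?_⟩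
  · rw [Submodule.mem_colon_singleton, Submodule.mem_bot, smul_tmul'] at hs
    by_contra hsq
    let ι := LocalizedModule.mkLinearMap q.primeCompl N
    let ιR : N →ₗ[R] LocalizedModule q.primeCompl N := ι.restrictScalars R
    let ψ := LinearMap.toSpanSingleton R M (c • m)
    have h1 : ψ.lTensor (LocalizedModule q.primeCompl N) (ιR (s • U • n) ⊗ₜ[R] (1 : R)) = 0 := by
      rw [LinearMap.lTensor_tmul, LinearMap.toSpanSingleton_apply, one_smul]
      have := congrArg (ιR.rTensor M) hs
      rwa [LinearMap.rTensor_tmul, map_zero] at this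
    obtain ⟨k, hk⟩ := ((Module.Flat.lTensor_exact (LocalizedModule q.primeCompl N)
      (LinearMap.exact_subtype_ker_map ψ)) _).1 h1
    let δ : R →ₗ[R] p.ResidueField := Algebra.linearMap R p.ResidueField
    have hker : ∀ x ∈ LinearMap.ker ψ, δ x = 0 := fun x hx => by
      refine Ideal.algebraMap_residueField_eq_zero.2 ?_
      by_contra hxp
      rw [LinearMap.mem_ker, LinearMap.toSpanSingleton_apply, smul_smul] at hx
      exact haI (x * s0) (fun h => (‹p.IsPrime›.mem_or_mem h).elim hxp hs0)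
        (Submodule.mem_colon_singleton.2 ((Submodule.mem_bot R).2 (by rw [mul_assoc]; exact hx)))
    have h2 : ιR (s • U • n) ⊗ₜ[R] (1 : p.ResidueField) = 0 := by
      have h3 := congrArg (δ.lTensor (LocalizedModule q.primeCompl N)) hk
      rw [LinearMap.lTensor_tmul, show δ 1 = 1 from map_one (algebraMap R p.ResidueField)] at h3
      rw [← h3, ← LinearMap.comp_apply, ← LinearMap.lTensor_comp]
      rw [show δ ∘ₗ (LinearMap.ker ψ).subtype = 0 from LinearMap.ext fun x => hker x x.2,
        LinearMap.lTensor_zero, LinearMap.zero_apply]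
    let F := AlgebraTensorModule.rTensor R p.ResidueField ι
    obtain ⟨t, ht⟩ := (IsLocalizedModule.eq_zero_iff q.primeCompl F
      (m := (s • U • n) ⊗ₜ[R] (1 : p.ResidueField))).1 h2
    have ht' : ((t : S) * (s * algebraMap R S U)) • (n ⊗ₜ[R] (1 : p.ResidueField)) = 0 := by
      rw [mul_smul, smul_tmul', mul_smul, algebraMap_smul]
      exact ht
    exact (‹q.IsPrime›.mem_or_mem ((hann _).1 ht')).elim t.2 fun h =>
      (‹q.IsPrime›.mem_or_mem h).elim hsq fun h' => hU ((hover U).2 h')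
  · rintro P ⟨hP, hPle⟩ hPq
    have hGP : ∀ g ∈ G, g ∈ P := fun g hg => hPle (by
      show g ∈ (⊥ : Submodule S (N ⊗[R] M)).colon {(U • n) ⊗ₜ[R] (c • m)}
      rw [Submodule.mem_colon_singleton, Submodule.mem_bot, smul_tmul', smul_comm g U n]
      have hmem : U • g • n ∈ J • (⊤ : Submodule R N) := by
        rw [show U = (∏ x ∈ G.erase g, u x) * u g by rw [mul_comm]; exact (Finset.mul_prod_erase G u hg).symm, mul_smul]
        exact Submodule.smul_mem _ _ (Submodule.smul_mono_left (Finset.le_sup hg) (hJn g hg))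
      refine Submodule.smul_induction_on hmem (fun j hj y _ => ?_) fun x y hx hy => by rw [add_tmul, hx, hy, add_zero]
      rw [smul_tmul, smul_smul]
      have := haJ j hj
      rw [hI, Submodule.mem_colon_singleton, Submodule.mem_bot] at this
      rw [mul_comm j c, this, tmul_zero])
    have hpP : p.map (algebraMap R S) ≤ P := Ideal.map_le_iff_le_comap.2 fun x hx => by
      obtain ⟨t, ht, k, hk⟩ := exists_mul_pow_mem_of_minimal hm hx
      have h1 : algebraMap R S t * algebraMap R S x ^ k ∈ P := hPle (by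
        show _ ∈ (⊥ : Submodule S (N ⊗[R] M)).colon {(U • n) ⊗ₜ[R] (c • m)}
        rw [Submodule.mem_colon_singleton, Submodule.mem_bot, ← map_pow, ← map_mul, algebraMap_smul,
          ← tmul_smul, smul_comm]
        rw [Submodule.mem_colon_singleton, Submodule.mem_bot] at hk
        rw [hk, smul_zero, tmul_zero])
      exact hP.mem_of_pow_mem k ((hP.mem_or_mem h1).resolve_left fun h => ht ((hover t).2 (hPq h)))
    intro g hg
    obtain ⟨v, hv, hmem⟩ := hG g hg
    rw [Algebra.smul_def] at hmem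
    exact (hP.mem_or_mem (sup_le (Ideal.span_le.2 hGP) hpP hmem)).resolve_left fun h => hv ((hover v).2 (hPq h))

end GrothLib.WeakAssFib
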